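import Cfsg.Agent.CG4.Basic
import Cfsg.Agent.SG2.M2b

/-!
# Standard subgroups of type `G₂(4)`: orbits on singular vectors and the order of `N(P) ∩ C(X)`
-/

set_option autoImplicit false
set_option linter.unusedSectionVars false
set_option synthInstance.maxSize 4000

namespace Cfsg.Lib.CG4

open Subgroup Cfsg.Lib.Trans Cfsg.Lib.Gold Cfsg.Lib.SG2
open Cfsg.Lib.StdA (St Cn DD Lg)
open Cfsg.Lib.Spor.GF4 (w)

universe u

variable {G : Type u} [Group G] [Finite G] {x : ZMod 12 → F → G} {r η : F → G} {g : G} {v : V}

namespace MV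

/-- Depth and generator for every singular vector. -/
def tab : ℕ := 0x340000024000003468d0e14000188000c00005000000000000000a000060000000001900000000040000000001000008000000000000001e0000d000048000000000000000002c0000030000003468d12314a000000001a8000b4000000000000c000060000000001c00000000000b40005a000000001a8000000005c000000001b0000980000000000000003e000002800000296501032000200000e0000500000000000006a000000001e8000d8000000000000d80004c000000001f0000000000001d0000d00006a000000000000000003b0000038000003886e18c00001a0000b00005800000000000000000240000028000003c78c4e314c000000001b0000b8000000000000a000070000000001c00000000000a400062000000002080000000058000000001a00009000000000000000035000003000000266ad4f320001c0000c8000600000000000000000035000002500000356ad4e95000188000c00005000000000000000a000060000000001900000000040000000001000008000000000006c000000001f0000d0000000000000c00006a000000001c0000000000001c0000c00006000000000000000000380000030000003870e144000980006c000000001f0000000005a000000001a800094000000000000000350000030000003174e143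20001c0000c0000600000000000000000036000002600000366cd8f16000188000c00005000000000000000a000060000000001900000000040000000001000008000000000000001e00011000068000000000000000003400000380000034790163148000000001a0000b0000000000000e000070000000002400000000068000000001e0000d4000000000000800004200000000148000000000001500008800040000000000000000002b0000020000002b70e05c06c000000001f0000d4000000000000b40005a000000001a800000000000190000d40007c00000000000000000330000038000003897014c06a000000001e8000d0000000000000a00006c0000000020000000000000200000d800050000000000000000003800000280000040810104068000000001e0000d8000000000000a0000320000000018800000000000190000680005000000000000000000330000028000003360c09c0220000000009800048000000000000800003200000000148000000000001500006800040000000000000000002b0000020000002b60c05800001a0000b00004800000000000000c40005200000000228000000000000030000003600000256cd8eb364000000001c0000c0000000000000000280000024000003c62f0e3158000000001a0000b000000000000001a8000940005a00000000000000e000050000000001c0000000006000000000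188000a000000000000000026000003600000366cd8f1600c4000500000000019800000000000100000800004000000000000000d800060000000001c0000000000001e8000d40006800000000000060000000001e0000c0000000000000000300000038000003870e14400000030000002c000003468d123168000000001e00009000000000000001b0000980005c00000000000000c000060000000001c0000000006000000000188000a0000000000000000240000034000003468d0e1400c400050000000001980000000000010000080000400000000000000001a8000b40004a00000000000000b80005c000000001b0000000000000028000003d000002988cd0337000000000200000a0000000000000940006a000000001e8000000000001f0000d80006a00000000000068000000001d8000d800000000000000038000003a0000038710d8c06000000000188000a000000000000000025000003500000356ad4e9500c400050000000001980000000000010000080000400000000000000001b0000b80004c00000000000000d40004a000000001e80000000000000300000036000003178ed43360000000001c0000c0000000000000000380000034000003480f163188000000001e0000d000000000000001a0000900005800000000000000e000070000000002400000000000840004000000000148000000000001e0000d00006c00000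000000046000000001580008000000000000000020000002a000002a70e054000d40005000000000200000000000001f0000d8000680000000000006a00000000220000a00000000000000002800000380000040810104000b80005c000000001b0000000000001e8000d40006c0000000000006c00000000198000f40000000000000003800000320000038812d4c000640005000000000188000000000001e0000d00006a0000000000003600000000198000a0000000000000000280000032000003260c09400064000400000000014800000000000090000440002600000000000036000000001580008000000000000000020000002a000002a60c0500009000058000000001a000000000000002a0000038000002866e10330001b0000940005c00000000000050000000001c0000c000000000005000000000190000cc0000000000000198000a0000640000000000000000035000003500000256ad4e9500800004000000000100000000000000035000002d00000356ad52b200b80004c000000001b0000000005600000000230000d40000000000000200000e0000620000000000000001d0000e00006c0000000000006c000000001f000098000000000000d00006c000000001f00000000000000390000038000003871099c05000000000190000cc0000000000000198000a0000640000000000000000036000003600000266cd8f160080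0004000000000100000000000000038000002b000002870c903200b000048000000001a0000000004c000000001a8000b400000000000001c0000a00006000000000000000940005a000000001a800000000000002e000003600000366cd9333000220000a8000640000000000007000000000200000c400000000000001e8000d40004a00000000000070000000001d8000d4000000000000d400068000000001e00000000000000380000039000003886e19400000035000002600000307cf8f3200b40004a000000001a80000000066000000001e8000f800000000000001c0000c00007200000000000000980005c000000001b0000000000000025000003600000307af4eb30001e0000c80007400000000000060000000001c0000e400000000005000000000190000cc0000000000000198000a00006400000000000000000340000034000002468d0e140080000400000000010000000000000150000800004400000000000040000000001580008c000000000000d80006a000000001e80000000000000290000029000002070e04c0000190000e00006a0000000000005a000000001a8000b4000000000000d00006a000000001e80000000000000310000040000003881015c00001b0000b80005c0000000000007000000000198000d8000000000000d800068000000001e0000000000000040000003100000388101540000190000a00003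400000000000050000000001980006c000000000000d40006c000000001f00000000000000310000031000002860c08c0000150000800003400000000000040000000001580006c0000000000004c00024000000000880000000000000290000029000002060c048038000000000e00007000000000007000000000190000ac00000000004a000000001b0000b800000000005400000000148000a40000000000009000068000000001980000000000b000058000000001a00000000000740003a000000000e80000000000a40005200000000150000000000001a8000b40005a0000000000000000f0000780003c000000000000000188000a800078000000000000000148000a80005200000000000000000380000036000003684ed73d00000260000035000003e7cf8f3d0000034000003b000003472f163e000003a00000410000042850594e00b000058000000001a00000000000d000048000000001900000000000780003c000000000f00000000000a4000520000000015000000000000198000e0000540000000000000000e000070000380000000000000001a8000980005a000000000000000148000a8000520000000000003a000000000e80007400000000005c000000001b0000b800000000005600000000188000f000000000005400000000148000a4000000000000000360000025000003d7af4ebe000003500000380000035750d6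be000003d000003400000347ce563c0000041000003b000004383099cc0001f0000d80004c0000000000000000e8000740003a0000000000000001c8000c800068000000000000000148000a8000520000000000003c000000000f00007800000000006a000000001e800094000000000066000000001c8000d000000000005400000000148000a4000000000000d00006c000000002280000000000d4000680000000023000000000007000038000000000e00000000000a4000520000000015000000000000002a0000023000002956acc3c0000022000002b000002954a8c3c000002a000002b000002152a4c3d000002a000002b0000029830404d0000040000003500000358acd6be000002d000003500000356ad52be000003c0000033000003563116bd000003200000430000042952554d0000036000002e00000366cd933d000003600000400000036651973d0000036000003c00000368ac573c00000420000033000004393295cc0000032000001b000003166cc83c000001a0000033000003164c883c00000320000033000001962c483e00000320000033000003172e444e000002a000001b000002956ac808000001a000002b000002954a8808000002a000002b000001952a4808000002a000002b000002972e4000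

theorem tab_eq_1' : type_of% @tab.eq_1 := @tab.eq_1

/-- The table entry of a vector. -/
def ent : V → ℕ
  | (a, b, s, c, d, e) => Nat.land (Nat.shiftRight tab (Nat.mul 7 (a.val + 4 * b.val + 16 * s.val +
      64 * c.val + 256 * d.val + 1024 * e.val))) 127

theorem ent_eq_1' : type_of% @ent.eq_1 := @ent.eq_1

/-- The generators. -/
def gen (k : ℕ) (v : V) : V :=
  if k = 0 then Nm v else if k < 4 then Gm (Spor.GF4.ofN k) v else Xm (Spor.GF4.ofN (k + 1)) v

theorem gen_eq_1' : type_of% @gen.eq_1 := @gen.eq_1

/-- The singular vectors whose rational span is anisotropic. -/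
def Dt : V → Prop
  | (a, b, s, c, d, e) => qf (a, b, s, c, d, e) = 0 ∧
      bf (a, b, s, c, d, e) (b * b, a * a, s * s, d * d, c * c, e * e) ≠ 0

theorem Dt_eq_1' : type_of% @Dt.eq_1 := @Dt.eq_1

instance instDecDt : DecidablePred Dt := fun v =>
  match v with
  | (_, _, _, _, _, _) => inferInstanceAs (Decidable (_ ∧ _))

theorem cert : ∀ a b s c d e : F, ∀ v : V, v = (a, b, s, c, d, e) → qf v = 0 → v ≠ 0 →
    (v = (1, 0, 0, 0, 0, 0) ∨ v = (1, 0, 0, 0, 1, 0) ∨ ∃ c, v = (0, 0, 0, 0, 0, c)) ∨
      ent (gen (ent v % 8) v) / 8 < ent v / 8 ∧ (Dt (gen (ent v % 8) v) ↔ Dt v) ∧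
        (InW (gen (ent v % 8) v) ↔ InW v) := by
  simp only [forall_eq]
  decide +kernel

theorem card_Dt : Nat.card {v : V // Dt v} = 336 := by
  rw [Nat.card_eq_fintype_card, Fintype.card_subtype]
  decide +kernel

theorem exists_gen (h : CF x r η) (k : ℕ) : ∃ g ∈ h.toHF.YW, ∀ v, Mv x r η g v = gen k v := by
  unfold gen
  split_ifs
  · exact ⟨_, h.PA_le_YW M3c.n0_PA, h.Mv_n0⟩
  · exact ⟨_, h.gg_YW _, h.gM _⟩
  · exact ⟨_, h.PA_le_YW (M3c.x0_PA _), h.Mv_x0 _⟩

theorem orb (h : CF x r η) (hq : qf v = 0) (h0 : v ≠ 0) : ∃ g ∈ h.toHF.YW, ∃ v₀ : V,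
    Mv x r η g v₀ = v ∧ (v₀ = (1, 0, 0, 0, 0, 0) ∨ v₀ = (1, 0, 0, 0, 1, 0) ∨
      ∃ c, v₀ = (0, 0, 0, 0, 0, c)) ∧ (Dt v₀ ↔ Dt v) ∧ (InW v₀ ↔ InW v) := by
  induction hn : ent v / 8 using Nat.strong_induction_on generalizing v with
  | _ n ih =>
    obtain ⟨a, b, s, c, d, e⟩ := v
    rcases cert a b s c d e _ rfl hq h0 with k | ⟨k1, k2, k3⟩
    · exact ⟨1, one_mem _, _, h.Mv_one _, k, Iff.rfl, Iff.rfl⟩
    generalize (a, b, s, c, d, e) = v at *
    obtain ⟨y, hy, e⟩ := exists_gen h (ent v % 8)
    rw [← e] at k1 k2 k3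
    obtain ⟨g, hg, v₀, e1, e2, e3, e4⟩ := ih _ (hn ▸ k1) ((h.Mv_qf hy.1 v).trans hq)
      (fun k => h0 (h.Mv_inj hy.1 (k.trans (h.Mv_zero y).symm))) rfl
    exact ⟨y⁻¹ * g, mul_mem (inv_mem hy) hg, v₀, by
      rw [h.Mv_mul (inv_mem hy.1) hg.1, e1, (h.Mv_inv hy.1 v).1], e2, e3.trans k2, e4.trans k3⟩

theorem not_long (h : CF x r η) (hl : ¬ DD (LL x) (x 3 1)) (hg : g ∈ Yh x r η) (c : F) :
    Mv x r η g (1, 0, 0, 0, 0, 0) ≠ (0, 0, 0, 0, 0, c) := fun e => by
  have c0 : c ≠ 0 := fun k => by
    rw [k] at e
    exact absurd (h.Mv_inj hg (e.trans (h.Mv_zero g).symm)) (by decide)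
  have hp := h.conj_mem hg (HF.r_mem_PP 1)
  obtain ⟨u, hu⟩ := (h.vp_eq_iff hp (HF.QQ_le_PP (ZZ_le_QQ (M3.NN_le_ZZ (M3.x1_NN c))))).1
    (by rw [h.vp_conj hg (HF.r_mem_PP 1), h.vp_r, e, h.vp_x1])
  have e1 : x 5 (u / c) * (x 1 c * x 3 u) * (x 5 (u / c))⁻¹ = x 1 c := by
    have := h.s.r15 c (u / c)
    rw [mul_div_cancel₀ _ c0] at this
    rw [← mul_assoc, ← this, mul_inv_cancel_right]
  have e2 : hh x 3 c * x 3 c * (hh x 3 c)⁻¹ = x 3 1 := by
    rw [h.sys.hh_conj 3 3 c0, show pr 3 3 = (2 : ℕ) by decide, zpow_natCast]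
    congr 1
    revert c0; clear * -; revert c; decide
  have e3 : x 3 1 = hh x 3 c * (nn x 5 1)⁻¹ * x 5 (u / c) * g * r 1 *
      (hh x 3 c * (nn x 5 1)⁻¹ * x 5 (u / c) * g)⁻¹ := by
    calc x 3 1 = hh x 3 c * ((nn x 5 1)⁻¹ * (x 5 (u / c) * (g * r 1 * g⁻¹) * (x 5 (u / c))⁻¹) *
          nn x 5 1) * (hh x 3 c)⁻¹ := by
          rw [hu, e1, ← h.n5_x3, ← e2]; group
      _ = _ := by group
  refine hl ⟨_, ⟨_, rfl⟩, e3 ▸ StdA.conj_mem_Cs (h.mem 1) _, h.s.mul_self 3 1, h.sys.ne⟩

end MV

open MV

theorem CF.orbit (h : CF x r η) (hq : qf v = 0) (h0 : v ≠ 0) : ∃ g ∈ Yh x r η,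
    (∀ v', InW v' → InW (Mv x r η g v')) ∧ (Mv x r η g (1, 0, 0, 0, 0, 0) = v ∨
      Mv x r η g (1, 0, 0, 0, 1, 0) = v ∨ ∃ c, Mv x r η g (0, 0, 0, 0, 0, c) = v) := by
  obtain ⟨g, hg, v₀, e, k, -⟩ := orb h hq h0
  refine ⟨g, hg.1, hg.2, ?_⟩
  rcases k with rfl | rfl | ⟨c, rfl⟩
  exacts [Or.inl e, Or.inr (Or.inl e), Or.inr (Or.inr ⟨c, e⟩)]

theorem CF.orbitW (h : CF x r η) (hq : qf v = 0) (h0 : v ≠ 0) (hW : InW v) :
    ∃ g ∈ Yh x r η, Mv x r η g (0, 0, 0, 0, 0, 1) = v := by
  obtain ⟨g, hg, v₀, e, k, -, k'⟩ := orb h hq h0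
  have h1 := k'.2 hW
  rcases k with rfl | rfl | ⟨c, rfl⟩
  · exact absurd h1 (by decide)
  · exact absurd h1 (by decide)
  rcases (show ∀ c : F, InW (0, 0, 0, 0, 0, c) → c = 0 ∨ c = 1 by decide) c h1 with rfl | rfl
  · exact absurd (e.symm.trans (h.Mv_zero g)) h0
  · exact ⟨g, hg.1, e⟩

theorem CF.not_t (h : CF x r η) (hg : g ∈ Yh x r η) :
    Mv x r η g (1, 0, 0, 0, 0, 0) ≠ (1, 0, 0, 0, 1, 0) := fun e => by
  have key : ∀ y ∈ Yh x r η, Mv x r η y (1, 0, 0, 0, 1, 0) = (1, 0, 0, 0, 1, 0) →
      Mv x r η y (Mv x r η g (0, 1, 0, 0, 0, 0)) = Mv x r η g (0, 1, 0, 0, 0, 0) := fun y hy k => by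
    obtain ⟨p, hp, l, hl, o, ho, e1⟩ := h.stab (mul_mem (inv_mem hg) (mul_mem hy hg)) (by
      rw [h.Mv_mul (inv_mem hg) (mul_mem hy hg), h.Mv_mul hy hg, e, k, ← e, (h.Mv_inv hg _).1])
    have hl' : l ∈ PA x := (le_sup_right : _ ≤ PA x) hl
    have h1 := h.PP_le_Yh hp
    have h2 := h.PA_le_Yh hl'
    rw [← h.Mv_mul hy hg, ← mul_inv_cancel_left g (y * g), e1,
      h.Mv_mul hg (mul_mem (mul_mem h1 h2) (h.OO_le_Yh ho)),
      h.Mv_mul (mul_mem h1 h2) (h.OO_le_Yh ho), h.Mv_mul h1 h2, h.Mv_OO ho, (h.Mv_PA hl').1,
      h.Mv_PP hp]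
  have y : ∀ t, Mv x r η (x 0 t * gg x η t) = fun v => Xm t (Gm t v) := fun t => funext fun v => by
    rw [h.Mv_mul (h.PA_le_Yh (M3c.x0_PA t)) (h.gg_Yh t), h.gM, h.Mv_x0]
  have k1 := key _ (mul_mem (h.PA_le_Yh (M3c.x0_PA 1)) (h.gg_Yh 1)) (by rw [y]; decide)
  have k2 := key _ (mul_mem (h.PA_le_Yh (M3c.x0_PA w)) (h.gg_Yh w)) (by rw [y]; decide)
  have k3 := h.Mv_bf hg (1, 0, 0, 0, 0, 0) (0, 1, 0, 0, 0, 0)
  rw [y] at k1 k2
  rw [e] at k3
  generalize Mv x r η g (0, 1, 0, 0, 0, 0) = v at k1 k2 k3
  obtain ⟨a, b, s, c, d, e⟩ := v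
  revert k1 k2 k3
  clear * -
  revert a b s c d e
  decide +kernel

theorem MV.mem_YW (h : CF x r η) (hl : ¬ DD (LL x) (x 3 1)) (hg : g ∈ Yh x r η) :
    g ∈ h.toHF.YW ∧ Dt (Mv x r η g (1, 0, 0, 0, 0, 0)) := by
  obtain ⟨k, hk, v₀, e, k1, k2, -⟩ := orb h (v := Mv x r η g (1, 0, 0, 0, 0, 0))
    ((h.Mv_qf hg _).trans (by decide))
    (fun k => absurd (h.Mv_inj hg (k.trans (h.Mv_zero g).symm)) (by decide))
  have h1 := mul_mem (inv_mem hk.1) hg
  have e1 : Mv x r η (k⁻¹ * g) (1, 0, 0, 0, 0, 0) = v₀ := by
    rw [h.Mv_mul (inv_mem hk.1) hg, ← e, (h.Mv_inv hk.1 _).1]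
  rcases k1 with rfl | rfl | ⟨c, rfl⟩
  · obtain ⟨p, hp, l, hl, o, ho, e2⟩ := h.stab h1 e1
    refine ⟨?_, k2.1 (by decide)⟩
    rw [← mul_inv_cancel_left k g, e2]
    exact mul_mem hk (mul_mem (mul_mem (h.PP_le_YW hp)
      (h.PA_le_YW ((le_sup_right : _ ≤ PA x) hl))) (h.OO_le_YW ho))
  · exact absurd e1 (h.not_t h1)
  · exact absurd e1 (not_long h hl h1 c)

theorem CF.presW (h : CF x r η) (hl : ¬ DD (LL x) (x 3 1)) (hg : g ∈ Yh x r η) (hv : InW v) :
    InW (Mv x r η g v) := (mem_YW h hl hg).1.2 v hv

theorem MV.card_PA (h : Sys x) : Nat.card (PA x) = 61440 := by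
  have h1 : Nat.card (QQ x) = Nat.card (F × F × F × F × F) :=
    card_of_param (fun v : F × F × F × F × F => qq x v.1 v.2.1 v.2.2.1 v.2.2.2.1 v.2.2.2.2)
      (fun _ _ e => by
        obtain ⟨e1, e2, e3, e4, e5⟩ := h.s.qq_inj h.inj e
        ext <;> assumption)
      fun _ => h.s.mem_QQ.trans ⟨fun ⟨b, c, d, e, r, k⟩ => ⟨(b, c, d, e, r), k⟩,
        fun ⟨_, k⟩ => ⟨_, _, _, _, _, k⟩⟩
  rw [← card_mul_relIndex (QQ_le_PA (x := x)), h1, h.relIndex_PA]
  simp only [Nat.card_prod, card_F]
  rfl

theorem CF.card_Yh (h : CF x r η) (hl : ¬ DD (LL x) (x 3 1)) :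
    Nat.card (Yh x r η) = 330301440 * Nat.card (OO x r η) := by
  have rP := HF.r_mem_PP (x := x) (r := r) (η := η)
  have h1 : (C1 (r 1)).relIndex (Yh x r η) = 1344 := by
    rw [← M2b.ncard_conj, ← Nat.card_coe_set_eq, show 1344 = Nat.card ({v : V // Dt v} × F) by
      rw [Nat.card_prod, card_Dt, card_F]]
    have hm : ∀ a : {v : V // Dt v} × F, pv x r η a.1 * x 3 a.2 ∈
        {y | ∃ n ∈ Yh x r η, n * r 1 * n⁻¹ = y} := by
      rintro ⟨⟨v, hv⟩, u⟩
      obtain ⟨g, hg, v₀, e, k1, k2, -⟩ := orb h (v := v) hv.1 (fun k => absurd (k ▸ hv) (by decide))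
      have k3 := k2.2 hv
      rcases k1 with rfl | rfl | ⟨c, rfl⟩
      · obtain ⟨u', hu⟩ := h.eq_vp (h.conj_mem hg.1 (rP 1))
        rw [h.vp_conj hg.1 (rP 1), h.vp_r, e] at hu
        refine ⟨g * η (u' + u), mul_mem hg.1 (h.PP_le_Yh (HF.eta_mem_PP _)), ?_⟩
        calc _ = g * (η (u' + u) * r 1 * (η (u' + u))⁻¹) * g⁻¹ := by group
          _ = g * r 1 * g⁻¹ * (g * x 3 (u' + u) * g⁻¹) := by rw [h.act, one_mul]; group
          _ = _ := by
            rw [hu, h.conj_x3 hg.1, mul_assoc, ← h.s.add, ← add_assoc, h.s.add_self, zero_add]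
      · exact absurd k3 (by decide)
      · exact absurd k3 (by clear * -; revert c; decide)
    refine (Nat.card_congr (Equiv.ofBijective (fun a => ⟨_, hm a⟩) ⟨fun a b e => ?_, ?_⟩)).symm
    · obtain ⟨e1, e2⟩ := h.pv_inj (congrArg Subtype.val e)
      exact Prod.ext (Subtype.ext e1) e2
    · rintro ⟨_, g, hg, rfl⟩
      obtain ⟨u, hu⟩ := h.eq_vp (h.conj_mem hg (rP 1))
      rw [h.vp_conj hg (rP 1), h.vp_r] at hu
      exact ⟨(⟨_, (mem_YW h hl hg).2⟩, u), Subtype.ext hu.symm⟩
  have h2 : Nat.card (C1 (r 1) ⊓ Yh x r η : Subgroup G) = Nat.card (PA x × F × OO x r η) := by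
    have oc : ∀ o : OO x r η, ∀ a, (o : G) * r a = r a * o := fun o a =>
      (mem_centralizer_iff.1 o.2.2 _ (rP a)).symm
    refine card_of_param (fun a : PA x × F × OO x r η => a.1 * (r a.2.1 * a.2.2))
      (fun ⟨p, a, o⟩ ⟨p', a', o'⟩ e => ?_) fun g => ⟨fun hg => ?_, ?_⟩
    · obtain ⟨e1, e2⟩ := dec_uniq h.sys (PA_le_LL p.2) (PA_le_LL p'.2) (mul_mem (h.mem a) o.2.1)
        (mul_mem (h.mem a') o'.2.1) e
      have e3 : r (a' + a) = o' * (o : G)⁻¹ := by
        rw [h.add, eq_mul_inv_iff_mul_eq, mul_assoc, e2, ← mul_assoc, h.sq, one_mul]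
      have e4 : r (a' + a) = 1 := by
        have := h.odd_OO (e3 ▸ mul_mem o'.2 (inv_mem o.2))
        rcases (Nat.dvd_prime Nat.prime_two).1 (orderOf_dvd_of_pow_eq_one
          (show r (a' + a) ^ 2 = 1 by rw [sq, h.sq])) with k | k
        · exact orderOf_eq_one_iff.1 k
        · rw [k] at this; exact absurd this (by decide)
      have e5 : a' = a := h.s.eq_of_add (by_contra fun k => h.ne _ k e4)
      subst e5
      exact Prod.ext (Subtype.ext e1) (Prod.ext rfl (Subtype.ext (mul_left_cancel e2)))
    · have e : g * r 1 * g⁻¹ = r 1 := by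
        rw [mem_centralizer_singleton_iff.1 hg.1, mul_inv_cancel_right]
      obtain ⟨b, p, hp, k, hk, e1, e2⟩ := h.dec hg.2.1 one_ne_zero one_ne_zero (u := 0)
        (by rw [e, h.s.zero, mul_one])
      have e3 : b = 0 := by
        have : η b * r 1 * (η b)⁻¹ = r 1 := by
          calc _ = η b * (p * (k * r 1 * k⁻¹) * p⁻¹) * (η b)⁻¹ := by
                rw [e2, ← h.comm_A 1 (PA_le_LL hp), mul_inv_cancel_right]
            _ = g * r 1 * g⁻¹ := by rw [e1]; group
            _ = _ := e
        rw [h.act, one_mul, mul_eq_left, ← h.s.zero 3] at this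
        exact h.s.x3_inj h.sys.inj this
      rw [e3, h.ezero, one_mul] at e1
      obtain ⟨a, o, ho, rfl⟩ := h.K_dec hk (by
        have := mul_mem (inv_mem (h.PA_le_Yh hp)) hg.2
        rw [e1, inv_mul_cancel_left] at this
        exact this.2) e2
      exact ⟨(⟨p, hp⟩, a, ⟨o, ho⟩), e1⟩
    · rintro ⟨⟨p, a, o⟩, rfl⟩
      exact ⟨mul_mem (mem_centralizer_singleton_iff.2 (h.comm_A 1 (PA_le_LL p.2)).symm)
        (mul_mem (mem_centralizer_singleton_iff.2 (h.comm a 1))
          (mem_centralizer_singleton_iff.2 (oc o 1))),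
        mul_mem (h.PA_le_Yh p.2) (mul_mem (h.PP_le_Yh (rP a)) (h.OO_le_Yh o.2))⟩
  rw [← card_mul_relIndex (inf_le_right (a := C1 (r 1))), inf_relIndex_right, h1, h2,
    Nat.card_prod, Nat.card_prod, card_F, card_PA h.sys]
  ring

end Cfsg.Lib.CG4
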